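import Cfsg.Agent.Lib.DC.ThT.Defs

set_option autoImplicit false
set_option maxRecDepth 100000
set_option Elab.async false
set_option linter.unusedSectionVars false

namespace Cfsg.Agent.DC.ThT
open Cfsg.Agent.CG

theorem c0 : allLt (fun a => Nat.beq (iv a) (nth CG.TD4.invL 30 a)) 256 = true := by decide +kernel
theorem c1 : band (blt ivT (Nat.pow 2 2048)) (blt CG.TD4.invL.length 256) = true := by decide +kernel
theorem c2 : allLt (fun a => blt (iv a) 256) 256 = true := by decide +kernel
theorem c3 : rules.all (ruleChk iv rels0 lrels idx) = true := by decide +kernel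
theorem c4 : allRange (chk CG.TD4.app iv CG.TD4.bs true facts nd rules) 0 140 = true := by decide +kernel
theorem c5 : allL (relChk facts 140) zs = true := by decide +kernel

end Cfsg.Agent.DC.ThT
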