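import Cfsg.Agent.Lib.DC.Glue

set_option autoImplicit false
set_option maxRecDepth 100000
set_option Elab.async false
set_option linter.unusedSectionVars false

namespace Cfsg.Agent.DC.ThT
open Cfsg.Agent.CG

noncomputable def facts : Tr Fact := (.node (.node (.node (.node (.node (.node (.node (.node (.leaf (Fact.mk (nat_lit 8) (nat_lit 0x1) (nat_lit 0x1) (nat_lit 0x1) (nat_lit 0x1) [])) (.leaf (Fact.mk (nat_lit 40962) (nat_lit 0x1) (nat_lit 0x1) (nat_lit 0x1) (nat_lit 0x10000006b00000050) [.ofNat 0,.ofNat 1]))) (.leaf (Fact.mk (nat_lit 4503599895838720) (nat_lit 0x11a151406) (nat_lit 0x106) (nat_lit 0x11b1d001a131a15) (nat_lit 0x10000007400000078000000600000007e00000067000000470000007a0000007a000000420000003b0000007e0000001000000015000000190000001400000002) []))) (.node (.leaf (Fact.mk (nat_lit 8) (nat_lit 0x11c1d001a081b) (nat_lit 0x1) (nat_lit 0x11c1d001a081b) (nat_lit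 0x1) [])) (.leaf (Fact.mk (nat_lit 4503600164306960) (nat_lit 0x11c081614191b03) (nat_lit 0x11b14191c080c0c) (nat_lit 0x104071a130c08) (nat_lit 0x1000000be000000a0) [.ofNat 0,.ofNat 0,.ofNat 0,.ofNat 0,.negSucc 0,.ofNat 0,.negSucc 0])))) (.node (.node (.leaf (Fact.mk (nat_lit 21) (nat_lit 0x11b041c0014) (nat_lit 0x11d001914191d) (nat_lit 0x1) (nat_lit 0x1000000150000000d0000001300000015) [.ofNat 0,.ofNat 0,.ofNat 0,.negSucc 1,.ofNat 0,.ofNat 0,.ofNat 0,.negSucc 2,.ofNat 0,.ofNat 0,.ofNat 0,.negSucc 1,.ofNat 5])) (.leaf (Fact.mk (nat_lit 9007199791644672) (nat_lit 0x11b081d15) (nat_lit 0x1) (nat_lit 0x100191c081b) (nat_lit 0x100800086002000650020007400000079000000610000006b0000009a00000067000000470000003f0000007a0000007a000000420000007a0000005b0000009a000000140000000e0000001800000008) []))) (.node (.leaf (Fact.mk (nat_lit 40962) (nat_lit 0x1) (nat_lit 0x1) (nat_lit 0x1) (nat_lit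 0x10000005f) [.ofNat 0,.ofNat 0,.ofNat 0,.ofNat 1,.ofNat 0,.ofNat 0,.ofNat 0,.ofNat 1])) (.leaf (Fact.mk (nat_lit 9007199791648784) (nat_lit 0x11c1d00041a1b050c03) (nat_lit 0x11c0019141b0608) (nat_lit 0x10419071a0f0b) (nat_lit 0x100000098002000d8000000c9000000b9000000de) [.ofNat 0,.ofNat 0,.ofNat 0,.ofNat 0,.ofNat 0,.ofNat 0,.ofNat 1,.ofNat 0,.ofNat 3,.ofNat 0,.ofNat 3]))))) (.node (.node (.node (.node (.leaf (Fact.mk (nat_lit 21) (nat_lit 0x11b1d) (nat_lit 0x11d07141a081c) (nat_lit 0x1) (nat_lit 0x10000000300000004000000060000000f000000080000000b0000000d0000000e00000009000000070000000500000002) [.ofNat 0,.ofNat 0,.ofNat 0,.ofNat 0,.ofNat 0,.ofNat 1,.ofNat 0,.ofNat 1])) (.leaf (Fact.mk (nat_lit 40962) (nat_lit 0x1) (nat_lit 0x1) (nat_lit 0x1) (nat_lit 0x1000000f4) [.ofNat 0,.ofNat 0,.ofNat 0,.ofNat 0,.ofNat 0,.ofNat 0,.ofNat 0,.ofNat 0,.ofNat 0,.ofNat 1]))) (.leaf (Fact.mk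 (nat_lit 4503599895846914) (nat_lit 0x1) (nat_lit 0x1) (nat_lit 0x1) (nat_lit 0x10000008e) [.ofNat 3,.ofNat 0,.ofNat 0,.ofNat 0,.ofNat 0,.ofNat 0,.ofNat 0,.ofNat 0,.ofNat 2,.ofNat 1]))) (.node (.leaf (Fact.mk (nat_lit 40962) (nat_lit 0x1) (nat_lit 0x1) (nat_lit 0x1) (nat_lit 0x10000004f) [.ofNat 0,.ofNat 1,.ofNat 1])) (.leaf (Fact.mk (nat_lit 9007199523213328) (nat_lit 0x11c1513031608) (nat_lit 0x1041a1d0c0c03) (nat_lit 0x113131a1d0f) (nat_lit 0x1000000c9000000b9000000ce) [.ofNat 0,.ofNat 0,.ofNat 0,.ofNat 0,.ofNat 0,.ofNat 0,.negSucc 4,.ofNat 0,.ofNat 2,.negSucc 0,.negSucc 0])))) (.node (.node (.leaf (Fact.mk (nat_lit 8) (nat_lit 0x102) (nat_lit 0x1) (nat_lit 0x102) (nat_lit 0x1) [])) (.leaf (Fact.mk (nat_lit 4503600164278288) (nat_lit 0x11b1d0004161c1a03) (nat_lit 0x10008141501140d) (nat_lit 0x1081315140d) (nat_lit 0x100000091000000ae) [.negSucc 0,.ofNat 0,.ofNat 0,.ofNat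 0,.ofNat 0,.ofNat 0,.ofNat 1,.ofNat 0,.negSucc 1,.negSucc 0]))) (.node (.leaf (Fact.mk (nat_lit 40962) (nat_lit 0x1) (nat_lit 0x1) (nat_lit 0x1) (nat_lit 0x10000006f) [.ofNat 0,.ofNat 0,.ofNat 0,.ofNat 0,.ofNat 0,.ofNat 0,.ofNat 0,.ofNat 0,.ofNat 0,.ofNat 0,.ofNat 0,.ofNat 0,.ofNat 2])) (.leaf (Fact.mk (nat_lit 9007199791644672) (nat_lit 0x11c0019141b0608) (nat_lit 0x11d02040816080b16) (nat_lit 0x11b1d131c19060c08) (nat_lit 0x10060008600400065000000ef004000750020007800400061000000de00000014000000080000000a0000001e000000a0000000e8000000e2) [.ofNat 0,.ofNat 0,.ofNat 0,.ofNat 0,.ofNat 0,.ofNat 0,.ofNat 0,.ofNat 0,.ofNat 0,.negSucc 0])))))) (.node (.node (.node (.node (.node (.leaf (Fact.mk (nat_lit 12305) (nat_lit 0x104) (nat_lit 0x104) (nat_lit 0x1) (nat_lit 0x1) [.ofNat 0,.ofNat 0,.ofNat 0,.negSucc 0])) (.leaf (Fact.mk (nat_lit 40962) (nat_lit 0x1) (nat_lit 0x1) (nat_lit 0x1)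 (nat_lit 0x10000008700000078) [.ofNat 0,.ofNat 0,.ofNat 0,.ofNat 0,.ofNat 0,.ofNat 1]))) (.leaf (Fact.mk (nat_lit 8) (nat_lit 0x10805) (nat_lit 0x1) (nat_lit 0x10805) (nat_lit 0x1) []))) (.node (.leaf (Fact.mk (nat_lit 268472336) (nat_lit 0x1) (nat_lit 0x10002) (nat_lit 0x1) (nat_lit 0x100000026) [.ofNat 1])) (.leaf (Fact.mk (nat_lit 40962) (nat_lit 0x1) (nat_lit 0x1) (nat_lit 0x1) (nat_lit 0x1000000c7) [.ofNat 0,.ofNat 0,.ofNat 0,.ofNat 0,.ofNat 1,.ofNat 0,.ofNat 6,.ofNat 0,.negSucc 3])))) (.node (.node (.leaf (Fact.mk (nat_lit 8) (nat_lit 0x108) (nat_lit 0x1) (nat_lit 0x108) (nat_lit 0x1) [])) (.leaf (Fact.mk (nat_lit 9007199791652864) (nat_lit 0x11d) (nat_lit 0x1) (nat_lit 0x11c02141a1b) (nat_lit 0x10000009f000000a2000000a1000000a6000000a2000000a2000000a2000000a70000009c000000a10000009e) []))) (.node (.leaf (Fact.mk (nat_lit 4503599895846914) (nat_lit 0x1) (nat_lit 0x1)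 (nat_lit 0x1) (nat_lit 0x1000000650000005900000055002000600000004d00200050000000670000002a0000002f000000330000003700000042000000370000003e000000420000002a0000002f000000670000003f00000043) [.ofNat 0,.ofNat 0,.negSucc 0])) (.leaf (Fact.mk (nat_lit 9007199791652864) (nat_lit 0x11b071c1416060c08) (nat_lit 0x1) (nat_lit 0x10413131a1d030b16) (nat_lit 0x1000000e6) [.ofNat 0,.ofNat 0,.ofNat 0,.ofNat 0,.ofNat 0,.ofNat 0,.negSucc 0,.ofNat 0,.ofNat 2,.negSucc 0,.ofNat 1]))))) (.node (.node (.node (.leaf (Fact.mk (nat_lit 21) (nat_lit 0x11c0208161c04) (nat_lit 0x11c1d161b1907) (nat_lit 0x1) (nat_lit 0x100000017000000020000000d0000001600000015) [.ofNat 0,.ofNat 0,.ofNat 0,.negSucc 0,.ofNat 0,.ofNat 0,.ofNat 0,.negSucc 0,.ofNat 0,.ofNat 0,.ofNat 0,.negSucc 0,.ofNat 2])) (.leaf (Fact.mk (nat_lit 40962) (nat_lit 0x1070606) (nat_lit 0x1070606) (nat_lit 0x1) (nat_lit 0x10000009700000094) [.ofNat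 0,.ofNat 0,.ofNat 0,.ofNat 0,.ofNat 0,.ofNat 0,.ofNat 0,.ofNat 0,.ofNat 0,.ofNat 2]))) (.node (.leaf (Fact.mk (nat_lit 40962) (nat_lit 0x1) (nat_lit 0x1) (nat_lit 0x1) (nat_lit 0x100000057) [.ofNat 0,.ofNat 0,.ofNat 0,.ofNat 0,.ofNat 0,.ofNat 0,.ofNat 0,.ofNat 2])) (.leaf (Fact.mk (nat_lit 4503599895846914) (nat_lit 0x11608) (nat_lit 0x11608) (nat_lit 0x1) (nat_lit 0x10020008600000075002000790000006b0000006700000047000000670000002b0000007b0000005b000000d6) [.ofNat 0,.ofNat 0,.ofNat 0,.ofNat 0,.ofNat 0,.ofNat 0,.ofNat 3,.ofNat 0,.ofNat 2,.negSucc 0,.ofNat 3])))) (.node (.node (.leaf (Fact.mk (nat_lit 8) (nat_lit 0x10415) (nat_lit 0x1) (nat_lit 0x10415) (nat_lit 0x1) [])) (.leaf (Fact.mk (nat_lit 40962) (nat_lit 0x1) (nat_lit 0x1) (nat_lit 0x1) (nat_lit 0x1000000b7) [.ofNat 1,.ofNat 0,.ofNat 0,.ofNat 0,.negSucc 0,.ofNat 0,.negSucc 1,.ofNat 0,.ofNat 2,.ofNat 1]))) (.node (.leaf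 (Fact.mk (nat_lit 40962) (nat_lit 0x1) (nat_lit 0x1) (nat_lit 0x1) (nat_lit 0x100000077) [.ofNat 0,.ofNat 0,.ofNat 0,.ofNat 0,.ofNat 0,.ofNat 1,.ofNat 0,.ofNat 0,.ofNat 0,.ofNat 0,.ofNat 0,.ofNat 0,.ofNat 1])) (.leaf (Fact.mk (nat_lit 9007199791644672) (nat_lit 0x11d161b071403) (nat_lit 0x11b1d0004161c1a03) (nat_lit 0x11b0207131b1d) (nat_lit 0x1006000f5002000ee004000eb000000c8000000b8000000ae000000f6) [.ofNat 0,.ofNat 0,.ofNat 0,.ofNat 0,.ofNat 0,.ofNat 0,.ofNat 0,.ofNat 0,.negSucc 3,.ofNat 0,.negSucc 2]))))))) (.node (.node (.node (.node (.node (.node (.leaf (Fact.mk (nat_lit 4113) (nat_lit 0x100) (nat_lit 0x100) (nat_lit 0x1) (nat_lit 0x1) [.ofNat 0,.negSucc 0])) (.leaf (Fact.mk (nat_lit 40962) (nat_lit 0x1) (nat_lit 0x1) (nat_lit 0x1) (nat_lit 0x10000007500000060) [.ofNat 0,.ofNat 0,.ofNat 0,.ofNat 1]))) (.leaf (Fact.mk (nat_lit 4503599895846914) (nat_lit 0x11a1514) (nat_lit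 0x11a1514) (nat_lit 0x1) (nat_lit 0x1000000710000002a0000007b0000006d0000003b00000080) [.ofNat 0,.ofNat 0,.ofNat 0,.ofNat 0,.ofNat 0,.ofNat 0,.ofNat 0,.ofNat 0,.ofNat 0,.ofNat 0,.ofNat 0,.ofNat 0,.negSucc 0]))) (.node (.leaf (Fact.mk (nat_lit 8) (nat_lit 0x11315131c16) (nat_lit 0x1) (nat_lit 0x11315131c16) (nat_lit 0x1) [])) (.leaf (Fact.mk (nat_lit 4503599895838720) (nat_lit 0x11c14190a0d) (nat_lit 0x10004130a0d) (nat_lit 0x11c00141c161b) (nat_lit 0x1000000870000007500000078000000bb00000060000000b9000000a4000000080000000a000000c2) [.ofNat 0,.ofNat 0,.ofNat 0,.ofNat 0,.negSucc 0,.ofNat 0,.negSucc 5,.ofNat 0,.ofNat 4])))) (.node (.node (.leaf (Fact.mk (nat_lit 21) (nat_lit 0x11b1d0814161c) (nat_lit 0x11b1d141c0716) (nat_lit 0x1) (nat_lit 0x10000001d0000002300000007) [.ofNat 0,.ofNat 0,.ofNat 1,.negSucc 0,.ofNat 0,.ofNat 2,.ofNat 0,.negSucc 0,.ofNat 0,.ofNat 0,.ofNat 0,.negSucc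 0,.ofNat 2])) (.leaf (Fact.mk (nat_lit 4503600164278288) (nat_lit 0x1) (nat_lit 0x1041303) (nat_lit 0x1) (nat_lit 0x10000009a) [.ofNat 1]))) (.node (.leaf (Fact.mk (nat_lit 40962) (nat_lit 0x1) (nat_lit 0x1) (nat_lit 0x1) (nat_lit 0x100000063) [.ofNat 0,.ofNat 0,.ofNat 0,.ofNat 0,.ofNat 0,.ofNat 0,.ofNat 0,.ofNat 0,.ofNat 0,.ofNat 0,.ofNat 0,.ofNat 1])) (.leaf (Fact.mk (nat_lit 9007199791689744) (nat_lit 0x11c1d0207151d011012) (nat_lit 0x11c0007141a08111612) (nat_lit 0x11d071d02040c08) (nat_lit 0x10040006400000099000000d900800079002000c8006000600000006a002000b8000000de0000001000000014000000060000001f0000001d000000a0000000e200000010000000150000000200000010000000a0000000d5) [.ofNat 0,.ofNat 0,.ofNat 0,.ofNat 0,.ofNat 0,.ofNat 0,.ofNat 1,.ofNat 0,.negSucc 4,.ofNat 0,.negSucc 2]))))) (.node (.node (.node (.node (.leaf (Fact.mk (nat_lit 21) (nat_lit 0x11c) (nat_lit 0x1141b13)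 (nat_lit 0x1) (nat_lit 0x10000000e00000010000000120000000a0000000f000000120000000d000000030000000f0000000900000003) [.ofNat 0,.ofNat 0,.ofNat 0,.ofNat 1,.ofNat 0,.ofNat 0,.ofNat 0,.ofNat 2,.ofNat 0,.ofNat 0,.ofNat 0,.ofNat 1,.negSucc 1])) (.leaf (Fact.mk (nat_lit 40962) (nat_lit 0x1) (nat_lit 0x1) (nat_lit 0x1) (nat_lit 0x100000064) [.ofNat 0,.ofNat 0,.ofNat 0,.ofNat 0,.ofNat 0,.ofNat 0,.ofNat 0,.ofNat 0,.ofNat 0,.ofNat 0,.ofNat 0,.ofNat 1]))) (.leaf (Fact.mk (nat_lit 32768) (nat_lit 0x11b1414161406) (nat_lit 0x11b1d0408141d) (nat_lit 0x1070606) (nat_lit 0x100000087000000480000001a00000092) [.ofNat 0,.ofNat 0,.ofNat 0,.ofNat 0,.ofNat 0,.ofNat 0,.ofNat 0,.ofNat 0,.ofNat 0,.ofNat 2]))) (.node (.leaf (Fact.mk (nat_lit 40962) (nat_lit 0x1) (nat_lit 0x1) (nat_lit 0x1) (nat_lit 0x100000053) [.ofNat 0,.ofNat 0,.ofNat 0,.ofNat 0,.ofNat 0,.ofNat 2])) (.leaf (Fact.mk (nat_lit 9007199791652864)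 (nat_lit 0x11d131d0f) (nat_lit 0x1) (nat_lit 0x11d001a131a03) (nat_lit 0x1000000d2) [.ofNat 0,.ofNat 0,.ofNat 0,.ofNat 0,.ofNat 0,.ofNat 0,.ofNat 5,.ofNat 0,.negSucc 1,.negSucc 0,.ofNat 1])))) (.node (.node (.leaf (Fact.mk (nat_lit 8) (nat_lit 0x104) (nat_lit 0x1) (nat_lit 0x104) (nat_lit 0x1) [])) (.leaf (Fact.mk (nat_lit 9007199791644672) (nat_lit 0x1071c141907) (nat_lit 0x11d08161c07) (nat_lit 0x11c1d00041c081d) (nat_lit 0x100000086000000990020007500000079000000600000009a0000001000000008000000b2) [.negSucc 0,.ofNat 0,.ofNat 0,.ofNat 0,.ofNat 1,.ofNat 0,.ofNat 2,.ofNat 0,.negSucc 1,.negSucc 0]))) (.node (.leaf (Fact.mk (nat_lit 40962) (nat_lit 0x1) (nat_lit 0x1) (nat_lit 0x1) (nat_lit 0x100000073) [.ofNat 0,.ofNat 0,.ofNat 0,.ofNat 0,.ofNat 0,.ofNat 0,.ofNat 0,.ofNat 1])) (.leaf (Fact.mk (nat_lit 40962) (nat_lit 0x1) (nat_lit 0x1) (nat_lit 0x1) (nat_lit 0x1000000f3) [.ofNat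 0,.ofNat 0,.ofNat 0,.ofNat 0,.ofNat 0,.ofNat 0,.ofNat 0,.ofNat 0,.ofNat 0,.ofNat 1])))))) (.node (.node (.node (.node (.node (.leaf (Fact.mk (nat_lit 20497) (nat_lit 0x104071608) (nat_lit 0x104071608) (nat_lit 0x1) (nat_lit 0x1) [.ofNat 0,.ofNat 0,.ofNat 0,.ofNat 0,.ofNat 0,.ofNat 0,.ofNat 0,.negSucc 0])) (.leaf (Fact.mk (nat_lit 40962) (nat_lit 0x1) (nat_lit 0x1) (nat_lit 0x1) (nat_lit 0x100000074) [.ofNat 0,.ofNat 0,.ofNat 0,.ofNat 0,.ofNat 0,.ofNat 0,.ofNat 0,.ofNat 1]))) (.leaf (Fact.mk (nat_lit 8) (nat_lit 0x108) (nat_lit 0x1) (nat_lit 0x108) (nat_lit 0x1) []))) (.node (.leaf (Fact.mk (nat_lit 40962) (nat_lit 0x1) (nat_lit 0x1) (nat_lit 0x1) (nat_lit 0x10000004b) [.ofNat 0,.ofNat 0,.ofNat 2])) (.leaf (Fact.mk (nat_lit 40962) (nat_lit 0x1) (nat_lit 0x1) (nat_lit 0x1) (nat_lit 0x1000000cb) [.ofNat 0,.ofNat 0,.ofNat 0,.ofNat 0,.ofNat 0,.ofNat 0,.ofNat 12,.ofNat 0,.negSucc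 7])))) (.node (.node (.leaf (Fact.mk (nat_lit 8) (nat_lit 0x100) (nat_lit 0x1) (nat_lit 0x100) (nat_lit 0x1) [])) (.leaf (Fact.mk (nat_lit 8) (nat_lit 0x100131c071c0909) (nat_lit 0x1) (nat_lit 0x100131c071c0909) (nat_lit 0x1) []))) (.node (.leaf (Fact.mk (nat_lit 4503599895846912) (nat_lit 0x11b1d041c151d04) (nat_lit 0x1) (nat_lit 0x11b1d1302151b) (nat_lit 0x10000006400000059000000550000006000000067000000330000005b0000002a0000004300000037) [.ofNat 0,.ofNat 0,.ofNat 0,.ofNat 0,.ofNat 0,.negSucc 0])) (.leaf (Fact.mk (nat_lit 9007199791652866) (nat_lit 0x1) (nat_lit 0x1) (nat_lit 0x1) (nat_lit 0x100000099000000dd002000ea0000009f0000009f000000ab000000e9000000e9000000e9000000d5) [.ofNat 0,.ofNat 0,.ofNat 0,.ofNat 0,.ofNat 0,.ofNat 0,.ofNat 0,.ofNat 0,.negSucc 7,.ofNat 0,.negSucc 5]))))) (.node (.node (.node (.leaf (Fact.mk (nat_lit 21) (nat_lit 0x11d02081d08) (nat_lit 0x11c081519)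 (nat_lit 0x1) (nat_lit 0x10000000d000000130000000d000000030000001400000011) [.ofNat 0,.ofNat 0,.ofNat 0,.ofNat 1,.ofNat 0,.negSucc 0,.ofNat 0,.ofNat 3,.ofNat 0,.ofNat 0,.ofNat 0,.ofNat 1,.negSucc 0])) (.leaf (Fact.mk (nat_lit 9007199791644672) (nat_lit 0x102131d13) (nat_lit 0x1) (nat_lit 0x11b1d0019141b13) (nat_lit 0x10080008700200064002000740000009a0000003f0000007b000000430000007b0000009a00000014000000080000002200000010) []))) (.node (.leaf (Fact.mk (nat_lit 4503599895846914) (nat_lit 0x1) (nat_lit 0x1) (nat_lit 0x1) (nat_lit 0x10000004c00000033000000420000002a00000037000000420000005a000000420000002a0000003e0000004200000036) [.ofNat 0,.ofNat 0,.ofNat 0,.ofNat 0,.ofNat 0,.ofNat 0,.ofNat 0,.ofNat 0,.ofNat 0,.ofNat 0,.ofNat 0,.ofNat 4])) (.leaf (Fact.mk (nat_lit 40962) (nat_lit 0x1) (nat_lit 0x1) (nat_lit 0x1) (nat_lit 0x1000000db) [.ofNat 0,.ofNat 0,.ofNat 0,.ofNat 0,.ofNat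 0,.ofNat 0,.ofNat 0,.ofNat 0,.ofNat 16,.ofNat 0,.ofNat 12])))) (.node (.node (.leaf (Fact.mk (nat_lit 8) (nat_lit 0x104071608) (nat_lit 0x1) (nat_lit 0x104071608) (nat_lit 0x1) [])) (.leaf (Fact.mk (nat_lit 9007199523233808) (nat_lit 0x11c00081519140c0c) (nat_lit 0x11c131c1403) (nat_lit 0x11c1d081c00130c0c) (nat_lit 0x100800086000000650020009900000079000000ba002000610040006a006000b80000009a00000010000000020000001a0000000c0000005a0000007b000000b000000014000000020000001a000000210000009e000000a6000000ae0000001b00000018000000060000007a0000005a00000043) [.ofNat 0,.ofNat 0,.ofNat 0,.ofNat 0,.negSucc 0,.ofNat 0,.negSucc 2,.ofNat 0,.ofNat 2,.negSucc 0]))) (.node (.leaf (Fact.mk (nat_lit 8) (nat_lit 0x106) (nat_lit 0x1) (nat_lit 0x106) (nat_lit 0x1) [])) (.leaf (Fact.mk (nat_lit 40962) (nat_lit 0x1) (nat_lit 0x1) (nat_lit 0x1) (nat_lit 0x1000000fb) [.ofNat 0,.ofNat 0,.ofNat 0,.ofNat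 0,.ofNat 0,.ofNat 0,.ofNat 0,.ofNat 0,.ofNat 4,.ofNat 0,.ofNat 3])))))))) (.node (.node (.node (.node (.node (.node (.node (.leaf (Fact.mk (nat_lit 17) (nat_lit 0x108) (nat_lit 0x107) (nat_lit 0x1) (nat_lit 0x1) [])) (.leaf (Fact.mk (nat_lit 40962) (nat_lit 0x1) (nat_lit 0x1) (nat_lit 0x1) (nat_lit 0x10000006a) [.ofNat 0,.ofNat 0,.ofNat 1]))) (.leaf (Fact.mk (nat_lit 4503599895842832) (nat_lit 0x106) (nat_lit 0x1000205) (nat_lit 0x105) (nat_lit 0x10000007e) [.ofNat 2,.ofNat 0,.ofNat 0,.ofNat 0,.ofNat 0,.ofNat 0,.ofNat 0,.ofNat 0,.ofNat 1]))) (.node (.leaf (Fact.mk (nat_lit 4503599895838720) (nat_lit 0x104131a07) (nat_lit 0x1) (nat_lit 0x11c1d001a081b) (nat_lit 0x10000002600000040000000260000000e) [.ofNat 0,.ofNat 0,.ofNat 0,.ofNat 0,.ofNat 0,.ofNat 0,.ofNat 0,.ofNat 0,.ofNat 0,.ofNat 0,.ofNat 0,.ofNat 1])) (.leaf (Fact.mk (nat_lit 4503600164302864) (nat_lit 0x115) (nat_lit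 0x11c14190a0d) (nat_lit 0x11d00161d131b) (nat_lit 0x10020008600000064000000990040007500a00079000000ba000000600000006b00000050004000b8000000b000000010000000150000000400000024000000120000009e0000009a000000100000001500000002000000100000001e000000180000005a0000007b000000b00000001000000003000000100000000f000000a0000000a3) [.ofNat 0,.ofNat 0,.ofNat 0,.ofNat 0,.negSucc 0,.ofNat 0,.ofNat 2,.ofNat 0,.negSucc 1,.negSucc 0])))) (.node (.node (.leaf (Fact.mk (nat_lit 21) (nat_lit 0x11b13151d19) (nat_lit 0x11b131a1c16) (nat_lit 0x1) (nat_lit 0x1000000170000001d00000014000000030000001400000011) [.ofNat 0,.ofNat 0,.ofNat 0,.ofNat 0,.ofNat 0,.negSucc 0,.ofNat 0,.negSucc 1,.ofNat 0,.ofNat 0,.ofNat 0,.ofNat 0,.negSucc 0])) (.leaf (Fact.mk (nat_lit 9007199791644672) (nat_lit 0x11c1607191c) (nat_lit 0x1) (nat_lit 0x11b1a1b071a) (nat_lit 0x10100008600a00065008000750020007800c000610000006b000000500000009a0000006700000047000000670000002f0000007b000000370000009a00000010000000150000001f0000001f0000001d)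 []))) (.node (.leaf (Fact.mk (nat_lit 4503599895846914) (nat_lit 0x1) (nat_lit 0x1) (nat_lit 0x1) (nat_lit 0x10000005d00200059002000600000004d00000042000000370000005b0000002b0000004200000042000000420000002a000000370000005b00000043) [.ofNat 0,.ofNat 0,.ofNat 0,.ofNat 0,.ofNat 0,.ofNat 0,.ofNat 0,.ofNat 0,.ofNat 0,.ofNat 0,.ofNat 0,.negSucc 0])) (.leaf (Fact.mk (nat_lit 9007199791677456) (nat_lit 0x11c1d1a0715131d0c) (nat_lit 0x11c0019141b0608) (nat_lit 0x11d00071b131b0508) (nat_lit 0x100000099002000d9000000e0000000d4000000a1) [.ofNat 0,.ofNat 0,.ofNat 0,.ofNat 0,.ofNat 0,.ofNat 0,.ofNat 0,.ofNat 0,.negSucc 2,.negSucc 0,.negSucc 1]))))) (.node (.node (.node (.node (.leaf (Fact.mk (nat_lit 28689) (nat_lit 0x11315131c16) (nat_lit 0x11d) (nat_lit 0x1) (nat_lit 0x1) [.ofNat 0,.ofNat 0,.ofNat 0,.ofNat 0,.ofNat 0,.ofNat 0,.ofNat 0,.ofNat 0,.ofNat 0,.ofNat 0,.ofNat 0,.ofNat 0,.negSucc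 0])) (.leaf (Fact.mk (nat_lit 40962) (nat_lit 0x1) (nat_lit 0x1) (nat_lit 0x1) (nat_lit 0x1026000f5034000fc01e000eb006000c8006000b8) [.ofNat 4,.ofNat 0,.ofNat 0,.ofNat 0,.ofNat 0,.ofNat 0,.ofNat 0,.ofNat 0,.ofNat 4,.ofNat 0,.ofNat 1]))) (.leaf (Fact.mk (nat_lit 268488720) (nat_lit 0x11c1d041516071d) (nat_lit 0x11b1414161406) (nat_lit 0x10805) (nat_lit 0x10080008601200075006000790020006000000091000000480000001000000003000000220000000e0000007e00000010000000030000000e0000002a0000008200000014000000080000001b000000140000002b00000082000000140000001800000010000000230000008200000010000000140000000a00000020000000030000002a00000082000000150000000f00000008000000120000002b0000007e000000100000000f00000018000000140000002a) [.ofNat 1,.ofNat 0,.ofNat 0,.ofNat 0,.ofNat 0,.ofNat 0,.ofNat 0,.ofNat 0,.ofNat 0,.negSucc 1]))) (.node (.leaf (Fact.mk (nat_lit 4503599895846914) (nat_lit 0x1) (nat_lit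 0x1) (nat_lit 0x1) (nat_lit 0x10000003b0000003b) [.ofNat 0,.ofNat 0,.ofNat 0,.ofNat 0,.ofNat 0,.negSucc 1])) (.leaf (Fact.mk (nat_lit 9007199791644672) (nat_lit 0x1041a1d0c0c03) (nat_lit 0x11c1d04071c1a1a) (nat_lit 0x11d001a131a03) (nat_lit 0x1000000870000006400000099000000780020006a0000009a00000010000000250000000e000000180000005a000000d0) [.ofNat 0,.ofNat 0,.ofNat 0,.ofNat 0,.ofNat 0,.ofNat 0,.ofNat 5,.ofNat 0,.negSucc 1,.negSucc 0,.ofNat 1])))) (.node (.node (.leaf (Fact.mk (nat_lit 4503599895838720) (nat_lit 0x102) (nat_lit 0x1) (nat_lit 0x102) (nat_lit 0x100000026000000300000002600000006) [.ofNat 0,.ofNat 0,.ofNat 1])) (.leaf (Fact.mk (nat_lit 9007199523237904) (nat_lit 0x11c1d02151c040f1c) (nat_lit 0x1071c141907) (nat_lit 0x11c1d0004071a1b) (nat_lit 0x100e00086000000650000009900a00079000000610020006a0000005100000090000000ae000000100000001500000006000000240000001d0000002e0000007a0000005a000000a400000014000000160000001d00000016000000ae0000001000000018000000020000001e00000042000000660000007b)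 [.ofNat 1,.ofNat 0,.ofNat 0,.ofNat 0,.negSucc 0,.ofNat 0,.negSucc 1,.ofNat 0,.ofNat 2,.negSucc 0]))) (.node (.leaf (Fact.mk (nat_lit 4503599895846914) (nat_lit 0x1) (nat_lit 0x1) (nat_lit 0x1) (nat_lit 0x10000007000200055000000610000006b00000047000000670000002b0000003f0000006700000042000000460000003600000067000000470000002a0000005b00000043000000470000006d) [.ofNat 0,.ofNat 0,.ofNat 0,.ofNat 0,.ofNat 0,.ofNat 0,.ofNat 0,.negSucc 0])) (.leaf (Fact.mk (nat_lit 9007199791652866) (nat_lit 0x11b1d00041b0819030b16) (nat_lit 0x11b1d00041b0819030b16) (nat_lit 0x1) (nat_lit 0x100000098000000ef000000ea0000009d000000a0000000a3000000ab000000e8000000f0) [.ofNat 0,.ofNat 0,.ofNat 0,.ofNat 0,.ofNat 0,.ofNat 0,.ofNat 0,.ofNat 0,.ofNat 0,.negSucc 0])))))) (.node (.node (.node (.node (.node (.leaf (Fact.mk (nat_lit 16401) (nat_lit 0x10415) (nat_lit 0x115) (nat_lit 0x1) (nat_lit 0x1) [.ofNat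 0,.ofNat 0,.ofNat 0,.ofNat 0,.ofNat 0,.negSucc 0])) (.leaf (Fact.mk (nat_lit 40962) (nat_lit 0x1) (nat_lit 0x1) (nat_lit 0x1) (nat_lit 0x1014000f401c000fd010000ea002000c9002000b9) [.negSucc 1,.ofNat 0,.ofNat 0,.ofNat 0,.ofNat 0,.ofNat 0,.ofNat 1,.ofNat 0,.negSucc 1]))) (.leaf (Fact.mk (nat_lit 4503599627419664) (nat_lit 0x108) (nat_lit 0x1) (nat_lit 0x108) (nat_lit 0x1006000500000008200000004000000060000002a0000007e000000020000002b0000007e000000020000007e0000000300000004000000060000002a0000007e0000000300000004000000060000002b0000008200000004000000060000002600000088) [.negSucc 2,.ofNat 0,.ofNat 0,.ofNat 0,.ofNat 0,.ofNat 0,.ofNat 0,.ofNat 0,.negSucc 1,.negSucc 0]))) (.node (.leaf (Fact.mk (nat_lit 4503599895846914) (nat_lit 0x1) (nat_lit 0x1) (nat_lit 0x1) (nat_lit 0x1000000330000002a0000002a0000002a00000033) [.ofNat 0,.ofNat 0,.negSucc 1])) (.leaf (Fact.mk (nat_lit 40962)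 (nat_lit 0x1) (nat_lit 0x1) (nat_lit 0x1) (nat_lit 0x1004000c9000000ba) [.ofNat 0,.ofNat 0,.ofNat 0,.ofNat 0,.ofNat 0,.ofNat 0,.negSucc 11,.ofNat 0,.ofNat 8])))) (.node (.node (.leaf (Fact.mk (nat_lit 4503599895838720) (nat_lit 0x107) (nat_lit 0x1) (nat_lit 0x108) (nat_lit 0x100000026000000280000002600000002) [])) (.leaf (Fact.mk (nat_lit 9007199791652864) (nat_lit 0x11c1d041c1414) (nat_lit 0x1) (nat_lit 0x11b161c1919) (nat_lit 0x1000000a1000000a1000000a2) []))) (.node (.leaf (Fact.mk (nat_lit 40962) (nat_lit 0x1) (nat_lit 0x1) (nat_lit 0x1) (nat_lit 0x100000069) [.ofNat 0,.ofNat 0,.ofNat 1])) (.leaf (Fact.mk (nat_lit 9007199791652866) (nat_lit 0x1) (nat_lit 0x1) (nat_lit 0x1) (nat_lit 0x1002000d8000000a70000009d000000a7000000e9000000a2000000e8000000d5) [.ofNat 0,.ofNat 0,.ofNat 0,.ofNat 0,.ofNat 0,.ofNat 0,.ofNat 1,.ofNat 0,.ofNat 6,.negSucc 0,.ofNat 5]))))) (.node (.node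 (.node (.leaf (Fact.mk (nat_lit 21) (nat_lit 0x11c1d041516071d) (nat_lit 0x11b1d02081d0414) (nat_lit 0x1) (nat_lit 0x100000019000000130000000d00000015) [.ofNat 0,.ofNat 0,.ofNat 0,.ofNat 0,.ofNat 0,.ofNat 0,.ofNat 0,.ofNat 0,.ofNat 0,.ofNat 0,.ofNat 0,.ofNat 0,.ofNat 1])) (.leaf (Fact.mk (nat_lit 9007199523176468) (nat_lit 0x103) (nat_lit 0x1) (nat_lit 0x1) (nat_lit 0x1) []))) (.node (.leaf (Fact.mk (nat_lit 4503599895846912) (nat_lit 0x10004081607) (nat_lit 0x1) (nat_lit 0x1000416) (nat_lit 0x10000004d000000500000002b0000002f0000003f0000002a) [.ofNat 0,.ofNat 0,.negSucc 0,.ofNat 0,.ofNat 0,.ofNat 0,.ofNat 0,.negSucc 0])) (.leaf (Fact.mk (nat_lit 40962) (nat_lit 0x1) (nat_lit 0x1) (nat_lit 0x1) (nat_lit 0x100200099006000d9000000cc) [.ofNat 0,.ofNat 0,.ofNat 0,.ofNat 0,.ofNat 0,.ofNat 0,.ofNat 0,.ofNat 0,.negSucc 15,.ofNat 0,.negSucc 11])))) (.node (.node (.leaf (Fact.mk (nat_lit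 4503599895838720) (nat_lit 0x115) (nat_lit 0x1) (nat_lit 0x10415) (nat_lit 0x10000002600000038000000260000000a) [.ofNat 0,.ofNat 0,.ofNat 0,.ofNat 0,.ofNat 0,.ofNat 1])) (.leaf (Fact.mk (nat_lit 40962) (nat_lit 0x1) (nat_lit 0x1) (nat_lit 0x1) (nat_lit 0x100000098004000b900000090) [.ofNat 0,.ofNat 0,.ofNat 0,.ofNat 0,.ofNat 3,.ofNat 0,.ofNat 6,.ofNat 0,.negSucc 3]))) (.node (.leaf (Fact.mk (nat_lit 4503599895846912) (nat_lit 0x11b1d071d131c) (nat_lit 0x1) (nat_lit 0x11b1d02131b0813) (nat_lit 0x1000000700000007500200079000000600000006a0000006700000037000000470000002a000000330000006d) [.ofNat 0,.ofNat 0,.ofNat 0,.ofNat 0,.ofNat 0,.ofNat 0,.ofNat 0,.ofNat 0,.ofNat 0,.ofNat 0,.ofNat 0,.ofNat 0,.negSucc 0])) (.leaf (Fact.mk (nat_lit 9007199791652866) (nat_lit 0x11c00041b0407) (nat_lit 0x11c00041b0407) (nat_lit 0x1) (nat_lit 0x10000009d000000a3000000a6000000a1000000f8) [.ofNat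 0,.ofNat 0,.ofNat 0,.ofNat 0,.ofNat 0,.ofNat 0,.ofNat 0,.ofNat 0,.negSucc 3,.ofNat 0,.negSucc 2]))))))) (.node (.node (.node (.node (.node (.node (.leaf (Fact.mk (nat_lit 8209) (nat_lit 0x102) (nat_lit 0x102) (nat_lit 0x1) (nat_lit 0x1) [.ofNat 0,.ofNat 0,.negSucc 0])) (.leaf (Fact.mk (nat_lit 40962) (nat_lit 0x1) (nat_lit 0x1) (nat_lit 0x1) (nat_lit 0x100a000f5012000fc00a000eb000000c8) [.ofNat 0,.ofNat 0,.ofNat 0,.ofNat 0,.ofNat 1]))) (.leaf (Fact.mk (nat_lit 40962) (nat_lit 0x1) (nat_lit 0x1) (nat_lit 0x1) (nat_lit 0x100000085) [.ofNat 0,.ofNat 0,.ofNat 0,.ofNat 0,.ofNat 0,.ofNat 0,.ofNat 0,.ofNat 0,.ofNat 0,.ofNat 0,.ofNat 0,.ofNat 0,.ofNat 1]))) (.node (.leaf (Fact.mk (nat_lit 4503599895838720) (nat_lit 0x11d) (nat_lit 0x1) (nat_lit 0x11315131c16) (nat_lit 0x100000026000000440000002600000012) [.ofNat 0,.ofNat 0,.ofNat 0,.ofNat 0,.ofNat 0,.ofNat 0,.ofNat 0,.ofNat 0,.ofNat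 0,.ofNat 0,.ofNat 0,.ofNat 0,.ofNat 1])) (.leaf (Fact.mk (nat_lit 4503599895846914) (nat_lit 0x11c0414141a) (nat_lit 0x11c0414141a) (nat_lit 0x1) (nat_lit 0x1000000860000007400000078000000470000003b000000470000003f000000c4) [.ofNat 0,.ofNat 0,.ofNat 0,.ofNat 0,.negSucc 0,.ofNat 0,.negSucc 5,.ofNat 0,.ofNat 4])))) (.node (.node (.leaf (Fact.mk (nat_lit 4503599627370516) (nat_lit 0x1) (nat_lit 0x1) (nat_lit 0x1) (nat_lit 0x1) [])) (.leaf (Fact.mk (nat_lit 9007199791652864) (nat_lit 0x11c1d08191c041c) (nat_lit 0x1) (nat_lit 0x11b1d16081b) (nat_lit 0x10000009e000000a1000000a10000009d) []))) (.node (.leaf (Fact.mk (nat_lit 4503599895846912) (nat_lit 0x11b1d) (nat_lit 0x1) (nat_lit 0x11d07141a081c) (nat_lit 0x10040006400000059000000550000006000000037000000430000005b0000002b000000430000002b0000005a0000003e000000430000003a0000002b) [.ofNat 0,.ofNat 0,.ofNat 0,.ofNat 0,.ofNat 0,.negSucc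 0])) (.leaf (Fact.mk (nat_lit 9007199791644672) (nat_lit 0x11c0007141a08111612) (nat_lit 0x11c1d161b070606) (nat_lit 0x10413131a1d030b16) (nat_lit 0x100000087000000e20000001a000000e4) [.ofNat 0,.ofNat 0,.ofNat 0,.ofNat 0,.ofNat 0,.ofNat 0,.negSucc 0,.ofNat 0,.ofNat 2,.negSucc 0,.ofNat 1]))))) (.node (.node (.node (.node (.leaf (Fact.mk (nat_lit 21) (nat_lit 0x102131519) (nat_lit 0x11b1414151914) (nat_lit 0x1) (nat_lit 0x1000000020000000e0000000b0000000f0000000300000014) [.ofNat 0,.ofNat 0,.ofNat 0,.ofNat 1,.ofNat 0,.ofNat 1,.ofNat 0,.ofNat 2,.ofNat 0,.ofNat 0,.ofNat 0,.ofNat 1,.negSucc 1])) (.leaf (Fact.mk (nat_lit 40962) (nat_lit 0x1) (nat_lit 0x1) (nat_lit 0x1) (nat_lit 0x100000086) [.ofNat 0,.ofNat 0,.ofNat 0,.ofNat 0,.ofNat 0,.ofNat 0,.ofNat 0,.ofNat 0,.ofNat 0,.ofNat 0,.ofNat 0,.ofNat 0,.ofNat 1]))) (.leaf (Fact.mk (nat_lit 8) (nat_lit 0x1070606) (nat_lit 0x1) (nat_lit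 0x1070606) (nat_lit 0x1) []))) (.node (.leaf (Fact.mk (nat_lit 4503599895846914) (nat_lit 0x1) (nat_lit 0x1) (nat_lit 0x1) (nat_lit 0x1000000540000004d000000500000002f0000003b0000003f000000320000002e0000002f0000003b0000003f) [.ofNat 0,.ofNat 0,.ofNat 0,.ofNat 0,.ofNat 0,.ofNat 0,.ofNat 0,.negSucc 1])) (.leaf (Fact.mk (nat_lit 4503599895838720) (nat_lit 0x11c191d040701140d) (nat_lit 0x10008141501140d) (nat_lit 0x1081608) (nat_lit 0x1002000870020006400000098000000cd0000007900000060000000b0000000a90000009d0000009e000000a6000000a6000000d4000000d4000000d40000009d000000b0000000150000000f000000210000000a) [.ofNat 0,.ofNat 0,.ofNat 0,.ofNat 0,.ofNat 0,.ofNat 0,.ofNat 3,.ofNat 0,.ofNat 2,.negSucc 0,.ofNat 3])))) (.node (.node (.leaf (Fact.mk (nat_lit 4503599895838720) (nat_lit 0x104) (nat_lit 0x1) (nat_lit 0x104) (nat_lit 0x100000026000000340000002600000008) [.ofNat 0,.ofNat 0,.ofNat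 0,.ofNat 1])) (.leaf (Fact.mk (nat_lit 9007199791652866) (nat_lit 0x11d0204081d13) (nat_lit 0x11d0204081d13) (nat_lit 0x1) (nat_lit 0x10000009e000000a10000009d000000a9000000b4) [.negSucc 0,.ofNat 0,.ofNat 0,.ofNat 0,.ofNat 1,.ofNat 0,.ofNat 2,.ofNat 0,.negSucc 1,.negSucc 0]))) (.node (.leaf (Fact.mk (nat_lit 4503599895846914) (nat_lit 0x1) (nat_lit 0x1) (nat_lit 0x1) (nat_lit 0x10000007000000075000000610020006b0000002b0000005b0000006d000000470000003b000000360000006600000067000000470000006c0000005b000000470000002a) [.ofNat 0,.ofNat 0,.ofNat 0,.ofNat 0,.ofNat 0,.negSucc 0,.ofNat 0,.ofNat 0,.ofNat 0,.ofNat 0,.ofNat 0,.ofNat 0,.negSucc 0])) (.leaf (Fact.mk (nat_lit 9007199523237904) (nat_lit 0x11d04191b08011009) (nat_lit 0x11d161b071403) (nat_lit 0x11c0414191401140d) (nat_lit 0x10000008600000064026000f501c000ee022000eb00000079006000c80000006a004000b8000000ae000000100000001400000019000000030000001f00000043000000360000006c000000b00000001000000015000000080000001200000002000000a0000000a30000009a00000015000000240000001e000000250000005a0000007b)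 [])))))) (.node (.node (.node (.node (.node (.leaf (Fact.mk (nat_lit 24593) (nat_lit 0x11c1d001a081b) (nat_lit 0x104131a07) (nat_lit 0x1) (nat_lit 0x1) [.ofNat 0,.ofNat 0,.ofNat 0,.ofNat 0,.ofNat 0,.ofNat 0,.ofNat 0,.ofNat 0,.ofNat 0,.ofNat 0,.ofNat 0,.negSucc 0])) (.leaf (Fact.mk (nat_lit 40962) (nat_lit 0x1) (nat_lit 0x1) (nat_lit 0x1) (nat_lit 0x101c000f4026000fd016000ea004000c9004000b9) [.negSucc 2,.ofNat 0,.ofNat 0,.ofNat 0,.ofNat 0,.ofNat 0,.ofNat 0,.ofNat 0,.negSucc 1]))) (.leaf (Fact.mk (nat_lit 4503599895838720) (nat_lit 0x1) (nat_lit 0x1) (nat_lit 0x1) (nat_lit 0x1000000260000008c0000008a) [.ofNat 3,.ofNat 0,.ofNat 0,.ofNat 0,.ofNat 0,.ofNat 0,.ofNat 0,.ofNat 0,.ofNat 2,.ofNat 1]))) (.node (.leaf (Fact.mk (nat_lit 4503599895846914) (nat_lit 0x1) (nat_lit 0x1) (nat_lit 0x1) (nat_lit 0x10000002b0000002f0000003b0000003a0000003a0000002a000000330000003b) [.ofNat 0,.negSucc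 0,.negSucc 0])) (.leaf (Fact.mk (nat_lit 4503600164311056) (nat_lit 0x1141a1d0c0c03) (nat_lit 0x11c1513031608) (nat_lit 0x11c1d131a1c160f16) (nat_lit 0x10000009900400075002000cd0000007800a000c80000006b004000b8000000c000000010000000140000000f000000150000000a000000bc00000014000000030000000a0000001b0000000a000000430000002b000000c000000010000000140000000a0000001700000024) [.ofNat 0,.ofNat 0,.ofNat 0,.ofNat 0,.ofNat 0,.ofNat 0,.ofNat 1,.ofNat 0,.ofNat 0,.ofNat 0,.ofNat 1])))) (.node (.node (.leaf (Fact.mk (nat_lit 4503599895838720) (nat_lit 0x100) (nat_lit 0x1) (nat_lit 0x100) (nat_lit 0x1000000260000002c0000002600000004) [.ofNat 0,.ofNat 1])) (.leaf (Fact.mk (nat_lit 9007199523233808) (nat_lit 0x11d04191b08011009) (nat_lit 0x11b1d0004161c1a03) (nat_lit 0x100131c071c0909) (nat_lit 0x100400087004000640040007500200079004000600000009a000000100000001500000002000000100000001c00000026000000ac000000480000001000000015000000080000000e00000015)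 [.negSucc 0,.ofNat 0,.ofNat 0,.ofNat 0,.ofNat 0,.ofNat 0,.negSucc 0]))) (.node (.leaf (Fact.mk (nat_lit 4503599895846914) (nat_lit 0x1) (nat_lit 0x1) (nat_lit 0x1) (nat_lit 0x1000000470000006d0000003f0000006c0000006c0000003e0000006d00000047) [.ofNat 0,.ofNat 0,.ofNat 0,.ofNat 0,.ofNat 0,.ofNat 0,.ofNat 0,.ofNat 0,.ofNat 0,.ofNat 0,.ofNat 0,.ofNat 0,.negSucc 1])) (.leaf (Fact.mk (nat_lit 40962) (nat_lit 0x1) (nat_lit 0x1) (nat_lit 0x1) (nat_lit 0x1000000ed) [.ofNat 0,.ofNat 0,.ofNat 0,.ofNat 0,.ofNat 0,.ofNat 0,.ofNat 0,.ofNat 0,.ofNat 8,.ofNat 0,.ofNat 6]))))) (.node (.node (.node (.leaf (Fact.mk (nat_lit 21) (nat_lit 0x11c1d19191c04) (nat_lit 0x11b1d02191c0419) (nat_lit 0x1) (nat_lit 0x10000001b0000001c0000000b000000090000001400000011) [.ofNat 0,.ofNat 0,.ofNat 0,.ofNat 3,.ofNat 0,.negSucc 0,.ofNat 0,.ofNat 4,.ofNat 0,.ofNat 0,.ofNat 0,.ofNat 2,.negSucc 3])) (.leaf (Fact.mk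 (nat_lit 9007199791644672) (nat_lit 0x11415131315) (nat_lit 0x1) (nat_lit 0x11415131315) (nat_lit 0x1002000860000007400600079000000600000006b0000009a0000006700000047000000670000004200000067000000470000007b0000003f0000003b0000009a000000020000002500000012) []))) (.node (.leaf (Fact.mk (nat_lit 4503599895846914) (nat_lit 0x1) (nat_lit 0x1) (nat_lit 0x1) (nat_lit 0x100400059000000540020004d000000500000002b0000005b0000002b0000003b0000005b0000003e0000003e0000002b0000002f000000370000003b0000005b) [.ofNat 0,.ofNat 0,.ofNat 0,.negSucc 0,.ofNat 0,.ofNat 0,.ofNat 0,.negSucc 0])) (.leaf (Fact.mk (nat_lit 9007199791685648) (nat_lit 0x116141a0608) (nat_lit 0x11c1d00041a1b050c03) (nat_lit 0x114191d070305) (nat_lit 0x100a000870080006400600074000000d800200079000000c800800060000000bc00000010000000030000000a0000002000000082000000100000001500000012000000220000001d0000002b000000a400000010000000150000000c0000001400000018000000d5)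 [.ofNat 0,.ofNat 0,.ofNat 0,.ofNat 0,.ofNat 0,.ofNat 0,.ofNat 1,.ofNat 0,.ofNat 3,.negSucc 0,.ofNat 3])))) (.node (.node (.leaf (Fact.mk (nat_lit 4503599895838720) (nat_lit 0x104071608) (nat_lit 0x1) (nat_lit 0x104071608) (nat_lit 0x1000000260000003c000000260000000c) [.ofNat 0,.ofNat 0,.ofNat 0,.ofNat 0,.ofNat 0,.ofNat 0,.ofNat 0,.ofNat 1])) (.leaf (Fact.mk (nat_lit 4503600164278288) (nat_lit 0x11c131c1403) (nat_lit 0x11b14191c080c0c) (nat_lit 0x11c1d000815131b0c08) (nat_lit 0x1000000bb000000b9000000bc) [.ofNat 0,.ofNat 0,.ofNat 0,.ofNat 0,.negSucc 0,.ofNat 0,.negSucc 0]))) (.node (.leaf (Fact.mk (nat_lit 4503599895851024) (nat_lit 0x105) (nat_lit 0x106) (nat_lit 0x106) (nat_lit 0x1000000260000007c00000048) [.negSucc 0,.ofNat 0,.ofNat 0,.ofNat 0,.ofNat 0,.ofNat 0,.ofNat 0,.ofNat 0,.negSucc 0])) (.leaf (Fact.mk (nat_lit 40962) (nat_lit 0x1) (nat_lit 0x1) (nat_lit 0x1) (nat_lit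 0x101c000f5026000fc016000eb004000c8004000b8) [.ofNat 3,.ofNat 0,.ofNat 0,.ofNat 0,.ofNat 0,.ofNat 0,.ofNat 0,.ofNat 0,.ofNat 2])))))))))
noncomputable def rules : Tr Rule := (.node (.node (.node (.node (.node (.leaf ⟨0,1,[],[7],[(0,[7])],2,false,1,false⟩) (.leaf ⟨0,1,[],[],[(0,[])],1,false,0,false⟩)) (.leaf ⟨0,0,[],[],[(1,[]),(0,[])],1,false,1,false⟩)) (.node (.leaf ⟨0,1,[.ofNat 0,.ofNat 0,.ofNat 0,.ofNat 0,.ofNat 0,.negSucc 0],[1,2,0,1],[(0,[1,0,2,1,4])],8,false,1,false⟩) (.leaf ⟨0,1,[.negSucc 2,.ofNat 0,.ofNat 0,.ofNat 0,.ofNat 0,.ofNat 0,.ofNat 0,.ofNat 0,.ofNat 0,.negSucc 0],[5],[(0,[0,2,6]),(0,[2,0,5]),(0,[6]),(0,[2,0,5]),(0,[6]),(0,[2,0,5]),(0,[6])],12,false,16,true⟩))) (.node (.node (.node (.leaf ⟨0,1,[.ofNat 0,.ofNat 0,.negSucc 0],[2],[(0,[2])],5,false,1,false⟩) (.leaf ⟨0,1,[.negSucc 2,.ofNat 0,.ofNat 0,.ofNat 0,.ofNat 0,.ofNat 0,.ofNat 0,.ofNat 0,.ofNat 0,.ofNat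 0,.ofNat 1],[5,5,3,6,6],[(0,[2,0,5,5,3,6,6]),(0,[2,0,5,5,3,0,2,3,2,3,5,4,3,2,3,4,6,6,6,4,3,2,3,4,5,5,6,6]),(0,[2,0,5,5,3,6,6])],13,true,30,true⟩)) (.leaf ⟨0,0,[],[],[],0,false,0,false⟩)) (.node (.leaf ⟨0,1,[.ofNat 0,.ofNat 0,.ofNat 0,.ofNat 0,.ofNat 0,.ofNat 0,.ofNat 0,.ofNat 0,.ofNat 0,.ofNat 0,.ofNat 0,.negSucc 0],[27,29,0,7,25,28],[(0,[25,20,7,4])],14,false,0,false⟩) (.leaf ⟨0,1,[.negSucc 1,.ofNat 0,.ofNat 0,.ofNat 0,.ofNat 0,.ofNat 0,.negSucc 0],[3,1,2,0,1,3],[(0,[3,1,0,2,1,2,4,3]),(0,[2,0,3,1,2,0,1,4]),(0,[2,0,3])],9,false,2,true⟩)))) (.node (.node (.node (.node (.leaf ⟨0,1,[.ofNat 0,.negSucc 0],[0],[(0,[0])],4,false,1,false⟩) (.leaf ⟨0,1,[.negSucc 2,.ofNat 0,.ofNat 0,.ofNat 0,.ofNat 0,.ofNat 0,.ofNat 0,.ofNat 0,.ofNat 0,.ofNat 0,.ofNat 1],[5,5,3,6,6],[(0,[2,0,5,5,3,6,6]),(0,[2,0,5,5,3,6,6]),(0,[2,0,5,5,3,0,2,3,2,3,5,4,3,2,3,4,6,6,6,4,3,2,3,4,5,5,6,6])],13,true,24,true⟩))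 (.leaf ⟨0,1,[.ofNat 1],[],[(1,[0,2])],3,true,3,false⟩)) (.node (.leaf ⟨0,1,[.ofNat 0,.ofNat 0,.ofNat 0,.ofNat 0,.ofNat 0,.ofNat 0,.ofNat 0,.negSucc 0],[5,5,4,6,6],[(0,[5,5,4,6,6])],10,false,4,false⟩) (.leaf ⟨0,1,[.negSucc 2,.ofNat 0,.ofNat 0,.ofNat 0,.ofNat 0,.ofNat 0,.ofNat 0,.ofNat 0,.ofNat 0,.negSucc 0],[5],[(0,[6]),(0,[2,0,5]),(0,[6]),(0,[2,0,5]),(0,[6]),(0,[2,0,5]),(0,[0,2,6])],12,false,4,true⟩))) (.node (.node (.node (.leaf ⟨0,1,[.ofNat 0,.ofNat 0,.ofNat 0,.negSucc 0],[4],[(0,[4])],6,false,1,false⟩) (.leaf ⟨0,1,[.negSucc 1,.ofNat 0,.ofNat 0,.ofNat 0,.ofNat 0,.ofNat 0,.ofNat 0,.ofNat 0,.negSucc 0],[6],[(0,[2,0,0,2,6]),(0,[2,0,6])],11,false,6,true⟩)) (.leaf ⟨0,1,[.negSucc 1,.ofNat 0,.ofNat 0,.ofNat 0,.ofNat 0,.ofNat 0,.ofNat 0,.ofNat 0,.negSucc 0],[6],[(0,[2,0,6]),(0,[2,0,0,2,6])],11,false,4,true⟩)) (.node (.leaf ⟨0,1,[.ofNat 0,.ofNat 0,.ofNat 0,.ofNat 0,.ofNat 0,.ofNat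 0,.ofNat 0,.ofNat 0,.ofNat 0,.ofNat 0,.ofNat 0,.ofNat 0,.negSucc 0],[19,21,19,28,22],[(0,[29])],15,false,0,false⟩) (.leaf ⟨0,1,[.negSucc 0,.ofNat 0,.ofNat 0,.ofNat 0,.negSucc 0],[3],[(0,[3,4]),(0,[2,0,3]),(0,[3,4])],7,false,3,true⟩)))))
noncomputable def ndT : ℕ := nat_lit 0x4d000013000000

end Cfsg.Agent.DC.ThT
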