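import Cfsg.Agent.Lib.DC.ThT.D0
import Cfsg.Agent.Lib.Grp.TD4.Defs

set_option autoImplicit false
set_option maxRecDepth 100000
set_option Elab.async false
set_option linter.unusedSectionVars false

namespace Cfsg.Agent.DC.ThT
open Cfsg.Agent.CG

noncomputable def nd : ℕ → ℕ := (fun i => look 0xffffff ndT (Nat.mul 24 i))
noncomputable def ivT : ℕ := nat_lit 0x3050207040906080b0d0a0f0c110e13101512171419161b181a1d1c1f1e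
noncomputable abbrev iv : ℕ → ℕ := ivX ivT 30
noncomputable def rels : List (List ℕ × List ℤ) := [([257,7,256,7], []),
  ([256,256,2,0], [.ofNat 1]),
  ([257,0,256,0], [.ofNat 0,.ofNat 1]),
  ([257,2,256,2], [.ofNat 0,.ofNat 0,.ofNat 1]),
  ([257,4,256,4], [.ofNat 0,.ofNat 0,.ofNat 0,.ofNat 1]),
  ([3,4,257,3,256,3,4,257,3,256], [.ofNat 0,.ofNat 0,.ofNat 0,.ofNat 0,.ofNat 1]),
  ([257,1,2,0,1,256,1,0,2,1,4], [.ofNat 0,.ofNat 0,.ofNat 0,.ofNat 0,.ofNat 0,.ofNat 1]),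
  ([3,257,3,1,2,0,1,3,256,3,1,0,2,1,2,4,3,257,3,1,2,0,1,4,257], [.ofNat 0,.ofNat 0,.ofNat 0,.ofNat 0,.ofNat 0,.ofNat 0,.ofNat 1]),
  ([4,6,6,257,5,5,4,6,6,256,5,5], [.ofNat 0,.ofNat 0,.ofNat 0,.ofNat 0,.ofNat 0,.ofNat 0,.ofNat 0,.ofNat 1]),
  ([0,2,6,257,6,257,6,257], [.ofNat 0,.ofNat 0,.ofNat 0,.ofNat 0,.ofNat 0,.ofNat 0,.ofNat 0,.ofNat 0,.ofNat 1]),
  ([0,2,6,257,5,256,6,257,5,256,6,257,5,256,6,257,5,256], [.ofNat 0,.ofNat 0,.ofNat 0,.ofNat 0,.ofNat 0,.ofNat 0,.ofNat 0,.ofNat 0,.ofNat 0,.ofNat 1]),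
  ([3,6,6,256,5,5,3,6,6,256,5,5,3,6,6,256,5,5,3,6,6,256,5,5,6,6,4,3,2,3,4,5,5,5,4,3,2,3,4,6,3,2,3,2,0], [.ofNat 0,.ofNat 0,.ofNat 0,.ofNat 0,.ofNat 0,.ofNat 0,.ofNat 0,.ofNat 0,.ofNat 0,.ofNat 0,.ofNat 1]),
  ([27,29,0,7,25,28,256,25,20,7,4,257], [.ofNat 0,.ofNat 0,.ofNat 0,.ofNat 0,.ofNat 0,.ofNat 0,.ofNat 0,.ofNat 0,.ofNat 0,.ofNat 0,.ofNat 0,.ofNat 1]),
  ([19,21,19,28,22,256,29,257], [.ofNat 0,.ofNat 0,.ofNat 0,.ofNat 0,.ofNat 0,.ofNat 0,.ofNat 0,.ofNat 0,.ofNat 0,.ofNat 0,.ofNat 0,.ofNat 0,.ofNat 1])]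
noncomputable def lrels : List (List ℕ) := []
noncomputable abbrev rels0 : List (List ℕ × List ℤ) := ([], []) :: ([256, 257], []) :: rels
noncomputable def idx : List (ℕ × ℕ) := [(257, 3)]
noncomputable def zs : List (ℕ × List ℤ) := [(127, [.ofNat 3,.ofNat 0,.ofNat 0,.ofNat 0,.ofNat 0,.ofNat 0,.ofNat 0,.ofNat 0,.ofNat 2]),
  (128, [.ofNat 0,.ofNat 1]),
  (129, [.ofNat 0,.ofNat 0,.ofNat 1]),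
  (130, [.ofNat 0,.ofNat 0,.ofNat 0,.ofNat 1]),
  (131, [.ofNat 0,.ofNat 0,.ofNat 0,.ofNat 0,.ofNat 1]),
  (132, [.ofNat 0,.ofNat 0,.ofNat 0,.ofNat 0,.ofNat 0,.ofNat 1]),
  (133, [.negSucc 1,.ofNat 0,.ofNat 0,.ofNat 0,.ofNat 0,.ofNat 0,.ofNat 1,.ofNat 0,.negSucc 1]),
  (134, [.ofNat 0,.ofNat 0,.ofNat 0,.ofNat 0,.ofNat 0,.ofNat 0,.ofNat 0,.ofNat 1]),
  (135, [.negSucc 2,.ofNat 0,.ofNat 0,.ofNat 0,.ofNat 0,.ofNat 0,.ofNat 0,.ofNat 0,.negSucc 1]),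
  (136, [.ofNat 0,.ofNat 0,.ofNat 0,.ofNat 0,.ofNat 0,.ofNat 0,.ofNat 0,.ofNat 0,.ofNat 0,.ofNat 1]),
  (137, [.ofNat 4,.ofNat 0,.ofNat 0,.ofNat 0,.ofNat 0,.ofNat 0,.ofNat 0,.ofNat 0,.ofNat 4,.ofNat 0,.ofNat 1]),
  (138, [.ofNat 0,.ofNat 0,.ofNat 0,.ofNat 0,.ofNat 0,.ofNat 0,.ofNat 0,.ofNat 0,.ofNat 0,.ofNat 0,.ofNat 0,.ofNat 1]),
  (139, [.ofNat 0,.ofNat 0,.ofNat 0,.ofNat 0,.ofNat 0,.ofNat 0,.ofNat 0,.ofNat 0,.ofNat 0,.ofNat 0,.ofNat 0,.ofNat 0,.ofNat 1])]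

end Cfsg.Agent.DC.ThT
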